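import Groth.Agent.Lib.Japanese.Field
import Groth.Agent.Lib.LocProp.RegularSmooth
import Mathlib

/-!
After a finite purely inseparable extension of the base field, the normalization of the reduction of a
one-dimensional affine variety is smooth.
-/

set_option autoImplicit false
set_option linter.style.haveILetI false
set_option maxSynthPendingDepth 3
universe u

open TensorProduct

namespace GrothLib.CurvePI4

/-- A one-dimensional finitely generated normal domain over a perfect field is smooth. -/
theorem smooth_of_isIntegrallyClosed {K : Type u} [Field K] [PerfectField K] (C : Type u) [CommRing C]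
    [IsDomain C] [Algebra K C] [Algebra.FiniteType K C] [IsIntegrallyClosed C]
    [Ring.DimensionLEOne C] : Algebra.Smooth K C := by
  haveI : IsNoetherianRing C := Algebra.FiniteType.isNoetherianRing K C
  haveI : Algebra.FinitePresentation K C := Algebra.FinitePresentation.of_finiteType.mp inferInstance
  haveI : IsDedekindDomain C := {}
  refine ⟨(Algebra.smoothLocus_eq_univ_iff (R := K) (A := C)).mp (Set.eq_univ_iff_forall.mpr fun q => ?_), inferInstance⟩
  haveI : IsDomain (Localization.AtPrime q.asIdeal) :=
    IsLocalization.isDomain_localization q.asIdeal.primeCompl_le_nonZeroDivisors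
  haveI : IsDedekindDomain (Localization.AtPrime q.asIdeal) :=
    IsLocalization.isDedekindDomain C q.asIdeal.primeCompl_le_nonZeroDivisors _
  haveI : IsPrincipalIdealRing (Localization.AtPrime q.asIdeal) := by
    refine IsPrincipalIdealRing.of_finite_primes ?_
    refine Set.Finite.subset (Set.finite_singleton (IsLocalRing.maximalIdeal (Localization.AtPrime q.asIdeal))
      |>.union (Set.finite_singleton ⊥)) fun P hP => ?_
    by_cases h : P = ⊥
    · exact Or.inr h
    · exact Or.inl (IsLocalRing.eq_maximalIdeal (Ideal.IsPrime.isMaximal hP h))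
  haveI : IsRegularLocalRing (Localization.AtPrime q.asIdeal) := inferInstance
  exact GrothLib.LocProp.isSmoothAt_of_isRegularLocalRing_of_perfectField q.asIdeal

variable (k : Type u) [Field k] (A : Type u) [CommRing A] [IsDomain A] [Algebra k A]
  [Algebra.FiniteType k A]

local notation "PC" => perfectClosure k (AlgebraicClosure k)
local notation "TA" => perfectClosure k (AlgebraicClosure k) ⊗[k] A
local notation "RA" => (perfectClosure k (AlgebraicClosure k) ⊗[k] A) ⧸
  nilradical (perfectClosure k (AlgebraicClosure k) ⊗[k] A)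

theorem exists_pow_eq_one_tmul (x : TA) : ∃ n > 0, ∃ a : A, x ^ n = (1 : PC) ⊗ₜ[k] a := by
  obtain ⟨n, hn, a, ha⟩ := IsPurelyInseparable.exists_pow_mem_range_tensorProduct (k := k) (K := PC)
    (R := A) (Algebra.TensorProduct.comm k PC A x)
  refine ⟨n, hn, a, (Algebra.TensorProduct.comm k PC A).injective ?_⟩
  rw [map_pow, ← ha]
  rfl

instance isPrime_nilradical : (nilradical TA).IsPrime := by
  have hinj : Function.Injective (Algebra.TensorProduct.includeRight : A →ₐ[k] TA) :=
    Algebra.TensorProduct.includeRight_injective (algebraMap k PC).injective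
  haveI : Nontrivial TA := hinj.nontrivial
  refine ⟨fun h => ?_, fun {x y} hxy => ?_⟩
  · have : (1 : TA) ∈ nilradical TA := h ▸ trivial
    obtain ⟨n, hn⟩ := mem_nilradical.mp this
    simp at hn
  obtain ⟨n, hn, a, ha⟩ := exists_pow_eq_one_tmul k A x
  obtain ⟨m, hm, b, hb⟩ := exists_pow_eq_one_tmul k A y
  obtain ⟨N, hN⟩ := mem_nilradical.mp hxy
  have h0 : (Algebra.TensorProduct.includeRight : A →ₐ[k] TA) ((a ^ m * b ^ n) ^ N) = 0 := by
    rw [map_pow, map_mul, map_pow, map_pow, Algebra.TensorProduct.includeRight_apply,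
      Algebra.TensorProduct.includeRight_apply, ← ha, ← hb, ← pow_mul, ← pow_mul, mul_comm m n, ← mul_pow,
      ← pow_mul, mul_comm (n * m) N, pow_mul, hN, zero_pow (by positivity)]
  have h1 := pow_eq_zero_iff'.mp (hinj (h0.trans (map_zero _).symm))
  rcases mul_eq_zero.mp h1.1 with h | h
  · exact Or.inl (mem_nilradical.mpr ⟨n, by rw [ha, (pow_eq_zero_iff'.mp h).1, tmul_zero]⟩)
  · exact Or.inr (mem_nilradical.mpr ⟨m, by rw [hb, (pow_eq_zero_iff'.mp h).1, tmul_zero]⟩)

theorem isIntegral_RA : (((Ideal.Quotient.mk (nilradical TA)).comp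
    (Algebra.TensorProduct.includeRight : A →ₐ[k] TA).toRingHom)).IsIntegral := by
  intro b
  obtain ⟨b, rfl⟩ := Ideal.Quotient.mk_surjective b
  obtain ⟨n, hn, a, ha⟩ := exists_pow_eq_one_tmul k A b
  refine ⟨Polynomial.X ^ n - Polynomial.C a, Polynomial.monic_X_pow_sub_C a hn.ne', ?_⟩
  rw [Polynomial.eval₂_sub, Polynomial.eval₂_X_pow, Polynomial.eval₂_C, ← map_pow, ha, RingHom.comp_apply]
  exact sub_self _

/-- After a large enough finite purely inseparable extension of the ground field, the normalization
of the reduction is smooth. -/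
theorem exists_smooth_integralClosure (hdim : Ring.DimensionLEOne A) :
    ∃ L₁ : IntermediateField k PC, FiniteDimensional k L₁ ∧
      ∀ L : IntermediateField k PC, L₁ ≤ L →
        ∀ (S : Type u) [CommRing S] [IsDomain S] [Algebra L S] (ψ : L ⊗[k] A →ₐ[L] S),
          Function.Surjective ψ → RingHom.ker ψ ≤ nilradical (L ⊗[k] A) →
          ∀ (K : Type u) [Field K] [Algebra S K] [IsFractionRing S K] (C : Type u) [CommRing C]
            [Algebra S C] [Algebra C K] [IsScalarTower S C K] [IsIntegralClosure C S K] [Algebra L C]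
            [IsScalarTower L S C], Algebra.Smooth L C := by
  classical
  haveI : IsDomain RA := Ideal.Quotient.isDomain _
  haveI : Algebra.FiniteType PC RA :=
    .of_surjective (Ideal.Quotient.mkₐ PC _) Ideal.Quotient.mk_surjective
  let Ω := FractionRing RA
  let CP := integralClosure RA Ω
  haveI : Module.Finite RA CP := GrothLib.Japanese.finite_integralClosure PC RA Ω Ω
  haveI : Algebra.FiniteType PC CP :=
    Algebra.FiniteType.trans (R := PC) (S := RA) (A := CP) inferInstance inferInstance
  haveI : IsFractionRing CP Ω := integralClosure.isFractionRing_of_finite_extension Ω Ω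
  haveI : IsIntegrallyClosed CP := integralClosure.isIntegrallyClosedOfFiniteExtension Ω
  -- dimension
  let qA : A →+* RA := (Ideal.Quotient.mk (nilradical TA)).comp
    (Algebra.TensorProduct.includeRight : A →ₐ[k] TA).toRingHom
  haveI : Ring.DimensionLEOne CP := by
    letI : Algebra A RA := qA.toAlgebra
    haveI : Algebra.IsIntegral A RA := ⟨isIntegral_RA k A⟩
    letI : Algebra A CP := ((algebraMap RA CP).comp qA).toAlgebra
    haveI : IsScalarTower A RA CP := IsScalarTower.of_algebraMap_eq fun _ => rfl
    haveI : Algebra.IsIntegral A CP := Algebra.IsIntegral.trans RA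
    refine ⟨fun {P} hP0 hP => ?_⟩
    haveI := hP
    have h1 : P.comap (algebraMap A CP) ≠ ⊥ := Ideal.comap_ne_bot_of_integral_mem
      (Submodule.exists_mem_ne_zero_of_ne_bot hP0).choose_spec.2
      (Submodule.exists_mem_ne_zero_of_ne_bot hP0).choose_spec.1 (Algebra.IsIntegral.isIntegral _)
    haveI := hdim.maximalOfPrime h1 (Ideal.IsPrime.comap _)
    exact Ideal.isMaximal_of_isIntegral_of_isMaximal_comap P this
  haveI hsmCP : Algebra.Smooth PC CP := smooth_of_isIntegrallyClosed CP
  -- a finite set of elements to be defined over the small field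
  haveI : IsNoetherianRing TA := Algebra.FiniteType.isNoetherianRing PC _
  obtain ⟨G, hG⟩ := IsNoetherian.noetherian (nilradical TA)
  obtain ⟨g, hg⟩ := (inferInstance : Module.Finite RA CP).fg_top
  choose nd hnd using fun c : CP => IsLocalization.exists_mk'_eq (nonZeroDivisors RA) (c : Ω)
  choose dn hdn using hnd
  choose lift hlift using fun r : RA => Ideal.Quotient.mk_surjective r
  let Elts : Finset TA := G ∪ g.image (fun c => lift (nd c)) ∪ g.image (fun c => lift (dn c).1)
  choose t ht using fun x : TA => TensorProduct.exists_finset x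
  let T : Finset PC := Elts.biUnion fun x => (t x).image Prod.fst
  let L₁ : IntermediateField k PC := IntermediateField.adjoin k (T : Set PC)
  have hfin : FiniteDimensional k L₁ :=
    IntermediateField.finiteDimensional_adjoin fun x _ => Algebra.IsIntegral.isIntegral x
  refine ⟨L₁, hfin, fun L hL S _ _ _ ψ hψ hker K _ _ _ C _ _ _ _ _ _ _ => ?_⟩
  letI : Algebra k S := ((algebraMap L S).comp (algebraMap k L)).toAlgebra
  haveI : IsScalarTower k L S := IsScalarTower.of_algebraMap_eq' rfl
  let ι : L ⊗[k] A →ₐ[k] TA := Algebra.TensorProduct.map L.val (AlgHom.id k A)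
  have hι : Function.Injective ι :=
    Module.Flat.rTensor_preserves_injective_linearMap (M := A) L.val.toLinearMap Subtype.val_injective
  have hy : ∀ x ∈ Elts, ∃ y, ι y = x := fun x hx => by
    rw [← ι.mem_range, ht x]
    refine Subalgebra.sum_mem _ fun j hj => ?_
    exact ⟨⟨j.1, hL (IntermediateField.subset_adjoin k _ (Finset.mem_biUnion.mpr
      ⟨x, hx, Finset.mem_image_of_mem _ hj⟩))⟩ ⊗ₜ j.2, rfl⟩
  -- the reduction over the big field as a base change
  let c₀ : L ⊗[k] A →ₐ[L] RA :=
    { __ := (Ideal.Quotient.mk (nilradical TA)).comp ι.toRingHom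
      commutes' := fun l => rfl }
  have hkerc : RingHom.ker ψ ≤ RingHom.ker c₀ := fun x hx => by
    rw [RingHom.mem_ker]
    exact ((mem_nilradical.mp (hker hx)).map c₀).eq_zero
  let gS : S →ₐ[L] RA := AlgHom.liftOfSurjective ψ hψ c₀ hkerc
  have hgS : ∀ x, gS (ψ x) = c₀ x := fun x => AlgHom.liftOfSurjective_apply ψ hψ c₀ hkerc x
  have hgSinj : Function.Injective gS := by
    refine (injective_iff_map_eq_zero gS).mpr fun s hs => ?_
    obtain ⟨x, rfl⟩ := hψ s
    rw [hgS] at hs
    obtain ⟨n, hn⟩ := mem_nilradical.mp (Ideal.Quotient.eq_zero_iff_mem.mp hs)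
    have hx : IsNilpotent x := ⟨n, hι (by rw [map_pow, map_zero]; exact hn)⟩
    exact (hx.map ψ).eq_zero
  let Φ : PC ⊗[L] S →ₐ[PC] RA := Algebra.TensorProduct.lift (Algebra.ofId PC RA) gS
    fun _ _ => Commute.all _ _
  have hΦinj : Function.Injective Φ := by
    let d : TA →ₐ[PC] PC ⊗[L] S := Algebra.TensorProduct.lift (Algebra.ofId PC _)
      (((Algebra.TensorProduct.includeRight (R := L) (A := PC) (B := S)).restrictScalars k).comp
        ((ψ.restrictScalars k).comp Algebra.TensorProduct.includeRight))
      fun _ _ => Commute.all (S := PC ⊗[L] S) _ _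
    have hd : ∀ z, d (ι z) = (1 : PC) ⊗ₜ[L] ψ z := fun z => by
      induction z with
      | zero => simp
      | add a b ha hb => rw [map_add, map_add, ha, hb, map_add, tmul_add]
      | tmul l a =>
        change d ((l : PC) ⊗ₜ[k] a) = _
        rw [Algebra.TensorProduct.lift_tmul]
        have h1 : l ⊗ₜ[k] a = l • ((1 : L) ⊗ₜ[k] a) := by rw [smul_tmul', smul_eq_mul, mul_one]
        rw [h1, map_smul]
        change algebraMap PC (PC ⊗[L] S) l * ((1 : PC) ⊗ₜ[L] ψ (1 ⊗ₜ a)) = _
        rw [tmul_smul, smul_tmul', Algebra.TensorProduct.algebraMap_apply,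
          Algebra.TensorProduct.tmul_mul_tmul, mul_one, one_mul, Algebra.smul_def, mul_one]
        rfl
    let db : RA →ₐ[PC] PC ⊗[L] S := Ideal.Quotient.liftₐ _ d fun x hx => by
      have : nilradical TA ≤ RingHom.ker d := by
        rw [← hG]
        refine Submodule.span_le.mpr fun z hz => ?_
        obtain ⟨y, rfl⟩ := hy z (Finset.mem_union_left _ (Finset.mem_union_left _ hz))
        have hy' : IsNilpotent y := by
          obtain ⟨n, hn⟩ := mem_nilradical.mp (hG ▸ Submodule.subset_span hz : ι y ∈ nilradical TA)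
          exact ⟨n, hι (by rw [map_pow, hn, map_zero])⟩
        rw [SetLike.mem_coe, RingHom.mem_ker, hd, (hy'.map ψ).eq_zero, tmul_zero]
      exact this hx
    have h₁ : db.comp Φ = AlgHom.id PC _ := by
      apply Algebra.TensorProduct.ext' (S := PC)
      intro a b
      obtain ⟨b, rfl⟩ := hψ b
      change db (algebraMap PC RA a * gS (ψ b)) = a ⊗ₜ[L] ψ b
      rw [map_mul, AlgHom.commutes, hgS]
      change _ * d (ι b) = _
      rw [hd, Algebra.TensorProduct.algebraMap_apply, Algebra.TensorProduct.tmul_mul_tmul, mul_one,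
        one_mul]
      rfl
    exact Function.LeftInverse.injective (g := db) fun z => AlgHom.congr_fun h₁ z
  -- the normalization over the big field as a base change
  let fS : S →ₐ[L] Ω := (IsScalarTower.toAlgHom L RA Ω).comp gS
  have hfS : Function.Injective fS := (IsFractionRing.injective RA Ω).comp hgSinj
  let jK : K →+* Ω := IsFractionRing.lift (g := fS.toRingHom) hfS
  let jC : C →ₐ[L] Ω :=
    { __ := jK.comp (algebraMap C K)
      commutes' := fun l => by
        show jK (algebraMap C K (algebraMap L C l)) = _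
        rw [IsScalarTower.algebraMap_apply L S C, ← IsScalarTower.algebraMap_apply S C K]
        exact (IsFractionRing.lift_algebraMap hfS _).trans (fS.commutes l) }
  have hjC : ∀ s, jC (algebraMap S C s) = fS s := fun s => by
    show jK (algebraMap C K (algebraMap S C s)) = _
    rw [← IsScalarTower.algebraMap_apply]
    exact IsFractionRing.lift_algebraMap hfS s
  let Θ : PC ⊗[L] C →ₐ[PC] Ω := Algebra.TensorProduct.lift (Algebra.ofId PC Ω) jC
    fun _ _ => Commute.all _ _
  let TS : PC ⊗[L] S →ₐ[PC] PC ⊗[L] C :=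
    Algebra.TensorProduct.map (AlgHom.id PC PC) (IsScalarTower.toAlgHom L S C)
  have hTS : ∀ w, Θ (TS w) = algebraMap RA Ω (Φ w) := fun w => by
    induction w with
    | zero => simp
    | add a b ha hb => simp only [map_add, ha, hb]
    | tmul p s =>
      rw [Algebra.TensorProduct.map_tmul, Algebra.TensorProduct.lift_tmul,
        Algebra.TensorProduct.lift_tmul, map_mul, IsScalarTower.coe_toAlgHom', hjC]
      rfl
  haveI : Algebra.IsIntegral S C := IsIntegralClosure.isIntegral_algebra S K
  have hinjCK : Function.Injective (algebraMap C K) := IsIntegralClosure.algebraMap_injective C S K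
  haveI : IsDomain C := hinjCK.isDomain
  have hden : ∀ z : PC ⊗[L] C, ∃ s : S, s ≠ 0 ∧ ∃ w, ((1 : PC) ⊗ₜ[L] algebraMap S C s) * z = TS w := by
    intro z
    induction z with
    | zero => exact ⟨1, one_ne_zero, 0, by simp⟩
    | tmul p c =>
      obtain ⟨⟨x, s⟩, hxs⟩ := IsLocalization.surj (nonZeroDivisors S) (algebraMap C K c)
      refine ⟨s.1, nonZeroDivisors.coe_ne_zero s, p ⊗ₜ x, ?_⟩
      rw [Algebra.TensorProduct.map_tmul, Algebra.TensorProduct.tmul_mul_tmul, one_mul, AlgHom.id_apply,
        IsScalarTower.coe_toAlgHom']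
      congr 1
      apply hinjCK
      rw [map_mul, ← IsScalarTower.algebraMap_apply, ← IsScalarTower.algebraMap_apply, mul_comm]
      exact hxs
    | add a b ha hb =>
      obtain ⟨s, hs, w, hw⟩ := ha
      obtain ⟨s', hs', w', hw'⟩ := hb
      refine ⟨s * s', mul_ne_zero hs hs',
        ((1 : PC) ⊗ₜ[L] s') * w + ((1 : PC) ⊗ₜ[L] s) * w', ?_⟩
      rw [map_add, map_mul TS, map_mul TS, ← hw, ← hw', Algebra.TensorProduct.map_tmul,
        Algebra.TensorProduct.map_tmul, map_mul, AlgHom.id_apply, IsScalarTower.coe_toAlgHom']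
      rw [show (1 : PC) ⊗ₜ[L] (algebraMap S C s * algebraMap S C s') =
        ((1 : PC) ⊗ₜ[L] algebraMap S C s) * ((1 : PC) ⊗ₜ[L] algebraMap S C s') by
          rw [Algebra.TensorProduct.tmul_mul_tmul, one_mul]]
      ring
  have hΘinj : Function.Injective Θ := by
    refine (injective_iff_map_eq_zero Θ).mpr fun z hz => ?_
    obtain ⟨s, hs, w, hw⟩ := hden z
    have h0 : algebraMap RA Ω (Φ w) = 0 := by rw [← hTS, ← hw, map_mul, hz, mul_zero]
    have hw0 : w = 0 :=
      hΦinj ((IsFractionRing.injective RA Ω (h0.trans (map_zero _).symm)).trans (map_zero Φ).symm)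
    rw [hw0, map_zero] at hw
    have hs' : algebraMap S C s ≠ 0 := fun h => hs (IsFractionRing.injective S K (by
      rw [IsScalarTower.algebraMap_apply S C K, h, map_zero, map_zero]))
    have hmul := Module.Flat.lTensor_preserves_injective_linearMap (M := PC)
      (LinearMap.mulLeft L (algebraMap S C s)) (mul_right_injective₀ hs')
    apply hmul
    rw [map_zero, ← hw]
    clear hz hw
    induction z with
    | zero => simp
    | add a b ha hb => rw [map_add, ha, hb, mul_add]
    | tmul p c => rw [LinearMap.lTensor_tmul, Algebra.TensorProduct.tmul_mul_tmul, one_mul]; rfl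
  -- the range is the normalization over the big field
  have hRA : ∀ r : RA, algebraMap RA Ω r ∈ Θ.range := fun r => by
    obtain ⟨x, rfl⟩ := Ideal.Quotient.mk_surjective r
    induction x with
    | zero => rw [map_zero, map_zero]; exact zero_mem _
    | add a b ha hb => rw [map_add, map_add]; exact add_mem ha hb
    | tmul p a =>
      refine ⟨TS (p ⊗ₜ ψ (1 ⊗ₜ a)), (hTS _).trans (congrArg _ ?_)⟩
      rw [Algebra.TensorProduct.lift_tmul, hgS]
      show algebraMap PC RA p * Ideal.Quotient.mk _ ((1 : PC) ⊗ₜ a) = _
      rw [IsScalarTower.algebraMap_apply PC TA RA, Ideal.Quotient.algebraMap_eq, ← map_mul,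
        Algebra.TensorProduct.algebraMap_apply, Algebra.TensorProduct.tmul_mul_tmul, mul_one, one_mul]
      rfl
  let qS : S →+* RA := gS.toRingHom
  have hintS : qS.IsIntegral := by
    have h := isIntegral_RA k A
    have e : (Ideal.Quotient.mk (nilradical TA)).comp
        (Algebra.TensorProduct.includeRight : A →ₐ[k] TA).toRingHom =
        qS.comp (ψ.toRingHom.comp (Algebra.TensorProduct.includeRight : A →ₐ[k] L ⊗[k] A).toRingHom) :=
      RingHom.ext fun a => (hgS (1 ⊗ₜ a)).symm
    rw [e] at h
    exact RingHom.IsIntegral.tower_top _ _ h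
  have hgen : ∀ c ∈ g, (c : Ω) ∈ Θ.range := fun c hc => by
    obtain ⟨y, hy'⟩ := hy _ (Finset.mem_union_left _ (Finset.mem_union_right _ (Finset.mem_image_of_mem _ hc)))
    obtain ⟨z, hz⟩ := hy _ (Finset.mem_union_right _ (Finset.mem_image_of_mem _ hc))
    have hy2 : gS (ψ y) = nd c := by
      rw [hgS]; show Ideal.Quotient.mk _ (ι y) = _; rw [hy', hlift]
    have hz2 : gS (ψ z) = (dn c).1 := by
      rw [hgS]; show Ideal.Quotient.mk _ (ι z) = _; rw [hz, hlift]
    have hz0 : ψ z ≠ 0 := fun h => nonZeroDivisors.coe_ne_zero (dn c) (by rw [← hz2, h, map_zero])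
    let x : K := IsLocalization.mk' K (ψ y) ⟨ψ z, mem_nonZeroDivisors_of_ne_zero hz0⟩
    have hx : jK x = (c : Ω) := by
      rw [IsFractionRing.lift_mk', ← hdn c, IsFractionRing.mk'_eq_div]
      show algebraMap RA Ω (gS (ψ y)) / algebraMap RA Ω (gS (ψ z)) = _
      rw [hy2, hz2]
    have hxint : IsIntegral S x := by
      letI : Algebra S RA := qS.toAlgebra
      haveI : Algebra.IsIntegral S RA := ⟨hintS⟩
      let jK' : K →ₐ[S] Ω := { jK with commutes' := fun s => (IsFractionRing.lift_algebraMap hfS s).trans (IsScalarTower.algebraMap_apply S RA Ω s).symm }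
      exact (isIntegral_algHom_iff jK' jK.injective).mp (by
        show IsIntegral S (jK x)
        rw [hx]
        exact isIntegral_trans _ c.2)
    obtain ⟨c', hc'⟩ := (IsIntegralClosure.isIntegral_iff (A := C)).mp hxint
    refine ⟨1 ⊗ₜ c', ?_⟩
    show Θ ((1 : PC) ⊗ₜ[L] c') = _
    rw [Algebra.TensorProduct.lift_tmul, map_one, one_mul]
    show jK (algebraMap C K c') = _
    rw [hc', hx]
  have hrange : Θ.range = (CP.restrictScalars PC) := by
    refine le_antisymm ?_ ?_
    · rintro _ ⟨z, rfl⟩
      induction z with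
      | zero => rw [map_zero]; exact zero_mem _
      | add a b ha hb => rw [map_add]; exact add_mem ha hb
      | tmul p c =>
        show Θ (p ⊗ₜ[L] c) ∈ _
        rw [Algebra.TensorProduct.lift_tmul]
        refine mul_mem ?_ ?_
        · show IsIntegral RA (algebraMap PC Ω p)
          rw [IsScalarTower.algebraMap_apply PC RA Ω]
          exact isIntegral_algebraMap
        · show IsIntegral RA (jC c)
          obtain ⟨P, hP, hPc⟩ := Algebra.IsIntegral.isIntegral (R := S) c
          refine ⟨P.map qS, hP.map _, ?_⟩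
          rw [Polynomial.eval₂_map]
          have h := congrArg jC hPc
          rw [map_zero, ← AlgHom.coe_toRingHom, Polynomial.hom_eval₂] at h
          rw [show (algebraMap RA Ω).comp qS = (jC : C →+* Ω).comp (algebraMap S C) from
            RingHom.ext fun s => (hjC s).symm]
          exact h
    · intro x hx
      have hx' : (⟨x, hx⟩ : CP) ∈ Submodule.span RA (g : Set CP) := hg ▸ Submodule.mem_top
      suffices H : ∀ y ∈ Submodule.span RA (g : Set CP), (y : Ω) ∈ Θ.range from H _ hx'
      intro y hy
      induction hy using Submodule.span_induction with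
      | mem y hy => exact hgen y hy
      | zero => exact zero_mem _
      | add a b _ _ ha hb => exact add_mem ha hb
      | smul r a _ ha =>
        show (r • (a : Ω)) ∈ _
        rw [show (r • (a : Ω)) = algebraMap RA Ω r * (a : Ω) from Algebra.smul_def r (a : Ω)]
        exact mul_mem (hRA r) ha
  let e : (PC ⊗[L] C) ≃ₐ[PC] CP :=
    (AlgEquiv.ofInjective Θ hΘinj).trans (Subalgebra.equivOfEq _ _ hrange)
  haveI : Algebra.Smooth PC (PC ⊗[L] C) := Algebra.Smooth.of_equiv e.symm
  exact Algebra.Smooth.of_smooth_tensorProduct_of_faithfullyFlat PC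

end GrothLib.CurvePI4
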