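import Groth.Agent.Lib.CurvePI4.Algebra
import Groth.Agent.Lib.BaseChange.Irred
import Groth.Agent.Lib.NormFib.Scheme
import Groth.Agent.Lib.RedSub.Basic
import Mathlib

/-!
Charts of the normalization of the reduction of a base change.
-/

set_option autoImplicit false
set_option linter.style.haveILetI false
universe u

open CategoryTheory CategoryTheory.Limits AlgebraicGeometry TensorProduct

namespace GrothLib.CurvePI4

/-- The coordinate ring of an affine open of a curve has dimension at most one. -/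
theorem dimensionLEOne_of_topologicalKrullDim {X : Scheme.{u}} [IsIntegral X]
    (hdim : topologicalKrullDim X ≤ 1) {U : X.Opens} (hU : IsAffineOpen U) [Nonempty U] :
    Ring.DimensionLEOne Γ(X, U) := by
  have h1 : topologicalKrullDim (Spec Γ(X, U)) ≤ 1 :=
    le_trans (hU.fromSpec.isOpenEmbedding.isInducing.topologicalKrullDim_le) hdim
  have h2 : ringKrullDim Γ(X, U) ≤ 1 := by
    rw [← PrimeSpectrum.topologicalKrullDim_eq_ringKrullDim]
    exact h1
  haveI : Ring.KrullDimLE 1 Γ(X, U) := Ring.krullDimLE_iff.2 (by exact_mod_cast h2)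
  exact ⟨fun {P} hP0 hP => by
    rcases Ring.krullDimLE_one_iff.1 ‹_› P hP with h | h
    · rw [IsDomain.minimalPrimes_eq_singleton_bot] at h
      exact absurd h hP0
    · exact h⟩

variable (k : Type u) [Field k] (X : Scheme.{u}) [X.Over (Spec (CommRingCat.of k))] [IsIntegral X]
  (k' : Type u) [Field k'] [Algebra k k']

/-- The reduction of the base change. -/
noncomputable abbrev redBC : Scheme.{u} := (Curv2.bc k X k').nilradical.subscheme

theorem surjective_subschemeι_nilradical (W : Scheme.{u}) : Function.Surjective W.nilradical.subschemeι.base := by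
  rw [← Set.range_eq_univ, Scheme.IdealSheafData.range_subschemeι, Scheme.support_nilradical]
  rfl

theorem isIntegral_redBC [IsPurelyInseparable k k'] : IsIntegral (redBC k X k') := by
  haveI : IsReduced (redBC k X k') := by
    show IsReduced (Curv2.bc k X k').nilradical.subscheme
    rw [← Scheme.IdealSheafData.vanishingIdeal_top]
    exact GrothLib.RedSub.isReduced_subscheme_vanishingIdeal _
  let e := (GrothLib.BaseChange.isHomeomorph_bcFst k X k').homeomorph
  haveI : IrreducibleSpace (Curv2.bc k X k') :=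
    e.symm.surjective.irreducibleSpace e.symm.continuous
  let e2 : redBC k X k' ≃ₜ Curv2.bc k X k' :=
    (Curv2.bc k X k').nilradical.subschemeι.isEmbedding.toHomeomorphOfSurjective
      (surjective_subschemeι_nilradical _)
  haveI : IrreducibleSpace (redBC k X k') := e2.symm.surjective.irreducibleSpace e2.symm.continuous
  exact isIntegral_of_irreducibleSpace_of_isReduced _

variable [IsIntegral (redBC k X k')]
  [QuasiCompact ((redBC k X k').fromSpecStalk (genericPoint (redBC k X k')))]
  [QuasiSeparated ((redBC k X k').fromSpecStalk (genericPoint (redBC k X k')))]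

/-- The preimage in the normalization of the reduction of an open of the curve. -/
noncomputable abbrev chartOpen (U : X.Opens) : (Curv2.normalization (redBC k X k')).Opens :=
  NormFib.pre (((Curv2.bc k X k').nilradical.subschemeι ≫ Curv2.bcFst k X k') ⁻¹ᵁ U)

theorem iSup_chartOpen {ι : Type*} (U : ι → X.Opens) (hU : ⨆ i, U i = ⊤) :
    ⨆ i, chartOpen k X k' (U i) = ⊤ := by
  refine top_le_iff.mp fun z _ => ?_
  have : ((Curv2.bc k X k').nilradical.subschemeι ≫ Curv2.bcFst k X k')
      (Curv2.normalizationι (redBC k X k') z) ∈ ⨆ i, U i := hU ▸ trivial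
  obtain ⟨i, hi⟩ := TopologicalSpace.Opens.mem_iSup.mp this
  exact TopologicalSpace.Opens.mem_iSup.mpr ⟨i, hi⟩

/-- The chart of the normalization of the reduction is smooth once the algebraic normalization is. -/
theorem smooth_chart [IsPurelyInseparable k k'] {U : X.Opens} (hU : IsAffineOpen U) [Nonempty U]
    [Algebra k Γ(X, U)]
    (halg : hU.fromSpec ≫ (X ↘ Spec (CommRingCat.of k)) =
      Spec.map (CommRingCat.ofHom (algebraMap k Γ(X, U))))
    (H : ∀ (S : Type u) [CommRing S] [IsDomain S] [Algebra k' S] (ψ : k' ⊗[k] Γ(X, U) →ₐ[k'] S),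
      Function.Surjective ψ → RingHom.ker ψ ≤ nilradical (k' ⊗[k] Γ(X, U)) →
      ∀ (K : Type u) [Field K] [Algebra S K] [IsFractionRing S K] (C : Type u) [CommRing C]
        [Algebra S C] [Algebra C K] [IsScalarTower S C K] [IsIntegralClosure C S K] [Algebra k' C]
        [IsScalarTower k' S C], Algebra.Smooth k' C) :
    Smooth ((chartOpen k X k' U).ι ≫ Curv2.normalizationι (redBC k X k') ≫
      (Curv2.bc k X k').nilradical.subschemeι ≫ Curv2.bcSnd k X k') := by
  let a₁ : Spec (CommRingCat.of k') ⟶ Spec (CommRingCat.of k) :=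
    Spec.map (CommRingCat.ofHom (algebraMap k k'))
  let a₂ : Spec Γ(X, U) ⟶ Spec (CommRingCat.of k) :=
    Spec.map (CommRingCat.ofHom (algebraMap k Γ(X, U)))
  let ι := (Curv2.bc k X k').nilradical.subschemeι
  let W : (Curv2.bc k X k').Opens := Curv2.bcFst k X k' ⁻¹ᵁ U
  let V : (redBC k X k').Opens := ι ⁻¹ᵁ W
  have hUf : hU.isoSpec.hom ≫ a₂ = U.ι ≫ (X ↘ Spec (CommRingCat.of k)) := by
    rw [show a₂ = hU.fromSpec ≫ (X ↘ Spec (CommRingCat.of k)) from halg.symm, ← Category.assoc,
      hU.isoSpec_hom_fromSpec]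
  -- the chart of the base change
  have H1 : IsPullback (Curv2.bcFst k X k' ∣_ U) (W.ι ≫ Curv2.bcSnd k X k')
      (U.ι ≫ (X ↘ Spec (CommRingCat.of k))) a₁ :=
    ((isPullback_morphismRestrict (Curv2.bcFst k X k') U).paste_vert
      (IsPullback.of_hasPullback (X ↘ Spec (CommRingCat.of k)) a₁))
  have H2 : IsPullback ((pullbackSpecIso k k' Γ(X, U)).inv ≫ pullback.snd a₁ a₂ ≫ hU.isoSpec.inv)
      ((pullbackSpecIso k k' Γ(X, U)).inv ≫ pullback.fst a₁ a₂)
      (U.ι ≫ (X ↘ Spec (CommRingCat.of k))) a₁ :=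
    (IsPullback.of_hasPullback a₁ a₂).flip.of_iso (pullbackSpecIso k k' Γ(X, U)) hU.isoSpec.symm
      (Iso.refl _) (Iso.refl _)
      (by simp [a₁, a₂]) (by simp [a₁, a₂]) (by simp [← hUf]) (by simp [a₁])
  let E : W.toScheme ≅ Spec (CommRingCat.of (k' ⊗[k] Γ(X, U))) := H1.isoIsPullback _ _ H2
  have hE : E.hom ≫ Spec.map (CommRingCat.ofHom (algebraMap k' (k' ⊗[k] Γ(X, U)))) =
      W.ι ≫ Curv2.bcSnd k X k' := by
    have := H1.isoIsPullback_hom_snd _ _ H2
    exact (congrArg (E.hom ≫ ·) (pullbackSpecIso_inv_fst k k' Γ(X, U))).symm.trans this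
  haveI : IsAffine W := IsAffine.of_isIso E.hom
  have hW : IsAffineOpen W := this
  have hV : IsAffineOpen V := hW.preimage ι
  -- the restricted closed immersion as a ring map
  obtain ⟨c, hc⟩ := Spec.map_surjective (hV.isoSpec.inv ≫ (ι ∣_ W) ≫ E.hom)
  haveI : IsClosedImmersion (ι ∣_ W) := IsZariskiLocalAtTarget.restrict (P := @IsClosedImmersion) (inferInstance : IsClosedImmersion ι) W
  haveI : Surjective (ι ∣_ W) :=
    IsZariskiLocalAtTarget.restrict (P := @Surjective) ⟨surjective_subschemeι_nilradical _⟩ W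
  haveI hci : IsClosedImmersion (Spec.map c) := hc ▸ inferInstance
  haveI hsur : Surjective (Spec.map c) := hc ▸ inferInstance
  letI : Algebra k' Γ(redBC k X k', V) :=
    ((c.hom).comp (algebraMap k' (k' ⊗[k] Γ(X, U)))).toAlgebra
  let ψ : k' ⊗[k] Γ(X, U) →ₐ[k'] Γ(redBC k X k', V) := { c.hom with commutes' := fun _ => rfl }
  have hψ : Function.Surjective ψ := by
    have h1 := (IsClosedImmersion.isAffine_surjective_of_isAffine (Spec.map c)).2
    have h2 : Function.Surjective (c ≫ (Scheme.ΓSpecIso _).inv).hom := by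
      rw [Scheme.ΓSpecIso_inv_naturality]
      exact h1.comp (Scheme.ΓSpecIso _).symm.commRingCatIsoToRingEquiv.surjective
    exact fun y => (h2 ((Scheme.ΓSpecIso _).inv y)).imp fun x hx =>
      (Scheme.ΓSpecIso _).symm.commRingCatIsoToRingEquiv.injective hx
  have hker : RingHom.ker ψ ≤ nilradical (k' ⊗[k] Γ(X, U)) := fun x hx => by
    rw [nilradical_eq_sInf, Submodule.mem_sInf]
    intro P hP
    obtain ⟨Q, hQ⟩ := hsur.surj ⟨P, hP⟩
    have : PrimeSpectrum.comap c.hom Q = ⟨P, hP⟩ := hQ
    rw [show P = (PrimeSpectrum.comap c.hom Q).asIdeal by rw [this]]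
    show c.hom x ∈ Q.asIdeal
    rw [show c.hom x = 0 from hx]
    exact zero_mem _
  haveI : Nonempty V := by
    obtain ⟨x⟩ := ‹Nonempty U›
    obtain ⟨w, hw⟩ := (GrothLib.BaseChange.isHomeomorph_bcFst k X k').surjective x.1
    obtain ⟨z, hz⟩ := surjective_subschemeι_nilradical _ w
    exact ⟨⟨z, show Curv2.bcFst k X k' (ι z) ∈ U by
      rw [show ι z = w from hz, hw]; exact x.2⟩⟩
  obtain ⟨_, hst, hic⟩ := NormFib.exists_chart hV
  haveI : IsFractionRing Γ(redBC k X k', V) (redBC k X k').functionField :=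
    functionField_isFractionRing_of_isAffineOpen _ V hV
  let N := Curv2.normalization (redBC k X k')
  letI := NormFib.chartAlgebra V
  letI : Algebra k' Γ(N, NormFib.pre V) :=
    ((algebraMap Γ(redBC k X k', V) Γ(N, NormFib.pre V)).comp
      (algebraMap k' Γ(redBC k X k', V))).toAlgebra
  haveI : IsScalarTower k' Γ(redBC k X k', V) Γ(N, NormFib.pre V) := IsScalarTower.of_algebraMap_eq' rfl
  haveI hsm : Algebra.Smooth k' Γ(N, NormFib.pre V) := H Γ(redBC k X k', V) ψ hψ hker
    (redBC k X k').functionField Γ(N, NormFib.pre V)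
  have hP : IsAffineOpen (NormFib.pre V) := NormFib.isAffineOpen_pre hV
  have key : (NormFib.pre V).ι ≫ Curv2.normalizationι (redBC k X k') ≫ ι ≫ Curv2.bcSnd k X k' =
      hP.isoSpec.hom ≫ Spec.map (CommRingCat.ofHom (algebraMap k' Γ(N, NormFib.pre V))) := by
    have h1 : hV.fromSpec ≫ ι ≫ Curv2.bcSnd k X k' =
        Spec.map (CommRingCat.ofHom (algebraMap k' Γ(redBC k X k', V))) := by
      rw [show CommRingCat.ofHom (algebraMap k' Γ(redBC k X k', V)) =
        CommRingCat.ofHom (algebraMap k' (k' ⊗[k] Γ(X, U))) ≫ c from rfl, Spec.map_comp, hc]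
      simp only [Category.assoc, hE]
      rw [← IsAffineOpen.isoSpec_inv_ι, Category.assoc]
      exact congrArg (hV.isoSpec.inv ≫ ·) (morphismRestrict_ι_assoc ι W _).symm
    rw [show CommRingCat.ofHom (algebraMap k' Γ(N, NormFib.pre V)) =
      CommRingCat.ofHom (algebraMap k' Γ(redBC k X k', V)) ≫ (Curv2.normalizationι (redBC k X k')).app V from rfl,
      Spec.map_comp, ← h1]
    rw [← hP.isoSpec_hom_fromSpec]
    have h2 := hV.SpecMap_appLE_fromSpec (Curv2.normalizationι (redBC k X k')) hP le_rfl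
    rw [← Scheme.Hom.app_eq_appLE] at h2
    simp only [Category.assoc]
    rw [reassoc_of% h2]
  rw [show chartOpen k X k' U = NormFib.pre V from rfl]
  show Smooth ((NormFib.pre V).ι ≫ Curv2.normalizationι (redBC k X k') ≫ ι ≫ Curv2.bcSnd k X k')
  rw [key]
  have : Smooth (Spec.map (CommRingCat.ofHom (algebraMap k' Γ(N, NormFib.pre V)))) := by
    rw [HasRingHomProperty.Spec_iff (P := @Smooth)]
    exact RingHom.smooth_algebraMap.mpr hsm
  infer_instance

end GrothLib.CurvePI4
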